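import Mathlib.Topology.Category.TopCommRingCat
import Mathlib.Topology.Category.TopCat.Limits.Basic
import Mathlib.Algebra.Category.Ring.Limits
import Mathlib.Algebra.Category.Ring.Colimits
import Mathlib.CategoryTheory.Limits.Preserves.Basic
import Mathlib.Topology.Algebra.Ring.Basic
import Mathlib.Topology.Algebra.Monoid
import Mathlib.Topology.Algebra.Group.Basic

/-!
# Limits and colimits of topological rings
-/

set_option autoImplicit false
set_option backward.isDefEq.respectTransparency false
set_option backward.isDefEq.respectTransparency.types false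
set_option linter.style.haveILetI false

universe u

open CategoryTheory CategoryTheory.Limits Topology

namespace Groth.Agent.TopRingLib

variable {R : Type u} [CommRing R]

theorem isTopologicalRing_iInf {ι : Sort*} (t : ι → TopologicalSpace R)
    (h : ∀ i, @IsTopologicalRing R (t i) _) : @IsTopologicalRing R (⨅ i, t i) _ :=
  letI : TopologicalSpace R := ⨅ i, t i
  { toContinuousAdd := continuousAdd_iInf fun i => (h i).toContinuousAdd
    toContinuousMul := continuousMul_iInf fun i => (h i).toContinuousMul
    toContinuousNeg := by
      refine @ContinuousNeg.mk R (⨅ i, t i) _ ?_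
      exact continuous_iInf_rng.2 fun i => continuous_iInf_dom (@continuous_neg R (t i) _ (h i).toContinuousNeg) }

theorem isTopologicalRing_induced {S : Type u} [CommRing S] [t : TopologicalSpace S] [IsTopologicalRing S]
    (f : R →+* S) : @IsTopologicalRing R (t.induced f) _ :=
  letI : TopologicalSpace R := t.induced f
  { toContinuousAdd := continuousAdd_induced f
    toContinuousMul := continuousMul_induced f
    toContinuousNeg := by
      refine @ContinuousNeg.mk R (t.induced f) _ (continuous_induced_rng.2 ?_)
      have : Continuous[t.induced f, t] (fun x => -f x) := (continuous_neg).comp continuous_induced_dom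
      exact (continuous_congr fun x => map_neg f x).2 this }

variable {J : Type u} [Category.{u} J] (F : J ⥤ TopCommRingCat.{u})

/-- The forgetful functor to rings. -/
abbrev U : TopCommRingCat.{u} ⥤ CommRingCat.{u} := forget₂ TopCommRingCat.{u} CommRingCat.{u}

/-- The topology on the colimit ring. -/
noncomputable def colimTop : TopologicalSpace ↥(colimit (F ⋙ U)) :=
  ⨅ t : {t : TopologicalSpace ↥(colimit (F ⋙ U)) // @IsTopologicalRing _ t _ ∧
    ∀ j, Continuous[(F.obj j).isTopologicalSpace, t] (fun x => colimit.ι (F ⋙ U) j x)}, t.1

theorem continuous_colimι (j : J) :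
    Continuous[(F.obj j).isTopologicalSpace, colimTop F] (fun x => colimit.ι (F ⋙ U) j x) :=
  continuous_iInf_rng.2 fun t => t.2.2 j

/-- The colimit topological ring. -/
noncomputable def colimPt : TopCommRingCat.{u} :=
  @TopCommRingCat.of ↥(colimit (F ⋙ U)) _ (colimTop F) (isTopologicalRing_iInf _ fun t => t.2.1)

/-- The colimit cocone. -/
noncomputable def colimCocone : Cocone F where
  pt := colimPt F
  ι :=
    { app := fun j => ⟨(colimit.ι (F ⋙ U) j).hom, continuous_colimι F j⟩
      naturality := fun i j a => Subtype.ext (RingHom.ext fun x =>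
        ConcreteCategory.congr_hom (colimit.w (F ⋙ U) a) x) }

/-- The colimit cocone is a colimit. -/
noncomputable def isColimitColimCocone : IsColimit (colimCocone F) where
  desc s := ⟨(colimit.desc (F ⋙ U) ((U).mapCocone s)).hom, continuous_iff_le_induced.2 (by
    refine iInf_le_of_le ⟨TopologicalSpace.induced (colimit.desc (F ⋙ U) ((U).mapCocone s)).hom s.pt.isTopologicalSpace,
      isTopologicalRing_induced (t := s.pt.isTopologicalSpace) _, fun j => ?_⟩ le_rfl
    refine continuous_induced_rng.2 ?_
    have e : (fun x => (colimit.desc (F ⋙ U) ((U).mapCocone s)).hom (colimit.ι (F ⋙ U) j x)) = fun x => (s.ι.app j).1 x :=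
      funext fun x => ConcreteCategory.congr_hom (colimit.ι_desc ((U).mapCocone s) j) x
    exact (congrArg (fun g => Continuous[(F.obj j).isTopologicalSpace, s.pt.isTopologicalSpace] g) e).mpr (s.ι.app j).2)⟩
  fac s j := Subtype.ext (RingHom.ext fun x => ConcreteCategory.congr_hom (colimit.ι_desc ((U).mapCocone s) j) x)
  uniq s m h := Subtype.ext (by
    have hm : CommRingCat.ofHom m.1 = colimit.desc (F ⋙ U) ((U).mapCocone s) := by
      refine colimit.hom_ext fun j => ?_
      exact ((U).congr_map (h j)).trans (colimit.ι_desc ((U).mapCocone s) j).symm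
    exact congrArg CommRingCat.Hom.hom hm)

/-- The underlying ring cocone is a colimit. -/
noncomputable def isColimitMap : IsColimit ((U).mapCocone (colimCocone F)) :=
  (colimit.isColimit (F ⋙ U)).ofIsoColimit (Cocone.ext (Iso.refl _) fun j => by simp; rfl)

/-- The limit topological ring. -/
noncomputable def limPt : TopCommRingCat.{u} :=
  @TopCommRingCat.of ↥(limit (F ⋙ U)) _
    (⨅ j, TopologicalSpace.induced (fun x => limit.π (F ⋙ U) j x) (F.obj j).isTopologicalSpace)
    (isTopologicalRing_iInf _ fun j => isTopologicalRing_induced (t := (F.obj j).isTopologicalSpace)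
      (limit.π (F ⋙ U) j).hom)

/-- The limit cone. -/
noncomputable def limCone : Cone F where
  pt := limPt F
  π :=
    { app := fun j => ⟨(limit.π (F ⋙ U) j).hom, continuous_iff_le_induced.2 (iInf_le _ j)⟩
      naturality := fun i j a => Subtype.ext (RingHom.ext fun x =>
        (ConcreteCategory.congr_hom (limit.w (F ⋙ U) a) x).symm) }

/-- The limit cone is a limit. -/
noncomputable def isLimitLimCone : IsLimit (limCone F) where
  lift s := ⟨(limit.lift (F ⋙ U) ((U).mapCone s)).hom, continuous_iInf_rng.2 fun j => continuous_induced_rng.2 (by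
    have e : (fun x => limit.π (F ⋙ U) j ((limit.lift (F ⋙ U) ((U).mapCone s)).hom x)) = fun x => (s.π.app j).1 x :=
      funext fun x => ConcreteCategory.congr_hom (limit.lift_π ((U).mapCone s) j) x
    exact (congrArg (fun g => Continuous[s.pt.isTopologicalSpace, (F.obj j).isTopologicalSpace] g) e).mpr (s.π.app j).2)⟩
  fac s j := Subtype.ext (RingHom.ext fun x => ConcreteCategory.congr_hom (limit.lift_π ((U).mapCone s) j) x)
  uniq s m h := Subtype.ext (by
    have hm : CommRingCat.ofHom m.1 = limit.lift (F ⋙ U) ((U).mapCone s) := by
      refine limit.hom_ext fun j => ?_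
      exact ((U).congr_map (h j)).trans (limit.lift_π ((U).mapCone s) j).symm
    exact congrArg CommRingCat.Hom.hom hm)

/-- The underlying ring cone is a limit. -/
noncomputable def isLimitMapRing : IsLimit ((U).mapCone (limCone F)) :=
  (limit.isLimit (F ⋙ U)).ofIsoLimit (Cone.ext (Iso.refl _) fun j => by simp; rfl)

/-- The underlying space cone is a limit. -/
noncomputable def isLimitMapTop : IsLimit ((forget₂ TopCommRingCat.{u} TopCat.{u}).mapCone (limCone F)) := by
  let c := (forget₂ TopCommRingCat.{u} TopCat.{u}).mapCone (limCone F)
  have h : IsLimit ((forget TopCat.{u}).mapCone c) :=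
    IsLimit.ofIsoLimit (isLimitOfPreserves (forget CommRingCat.{u}) (isLimitMapRing F))
      (Cone.ext (Iso.refl _) fun j => rfl)
  exact ((TopCat.nonempty_isLimit_iff_eq_induced c h).2 rfl).some

end Groth.Agent.TopRingLib
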